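import Mathlib.RingTheory.Localization.BaseChange
import Mathlib.RingTheory.PolynomialAlgebra
import Mathlib.RingTheory.Polynomial.Quotient
import Mathlib.RingTheory.Localization.FractionRing
import Mathlib.RingTheory.Flat.Basic
import Mathlib.RingTheory.Localization.Ideal
import Mathlib.RingTheory.Ideal.MinimalPrime.Localization

/-!
# The generic extension `K(t)`: algebra

For a field `K` and a `K`-algebra `A` which is a domain:
* `isDomain`: `A ⊗ K(t)` is a domain;
* `top_or_prime`: the ideal of `A ⊗ K(t)` generated by `f ⊗ 1 + 1 ⊗ t` is the unit ideal or prime.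
-/

set_option autoImplicit false

universe u v

namespace Groth.Agent.Pic13.H956.GenAlg

open TensorProduct Polynomial

section

variable (k : Type u) [Field k] (F : Type v) [CommRing F] [Algebra k F]

/-- The field `K(t)`. -/
abbrev Gen : Type u := FractionRing (Polynomial k)

/-- The element `t` of `K(t)`. -/
noncomputable def t : Gen k := algebraMap k[X] (Gen k) Polynomial.X

noncomputable def toLoc : F ⊗[k] k[X] →ₐ[F] F ⊗[k] Gen k :=
  Algebra.TensorProduct.map (AlgHom.id F F) (IsScalarTower.toAlgHom k k[X] (Gen k))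

theorem isLocalization :
    letI : Algebra (F ⊗[k] k[X]) (F ⊗[k] Gen k) := (toLoc k F).toRingHom.toAlgebra
    IsLocalization ((nonZeroDivisors k[X]).map
      (Algebra.TensorProduct.includeRight (R := k) (A := F))) (F ⊗[k] Gen k) := by
  let _ : Algebra (F ⊗[k] k[X]) (F ⊗[k] Gen k) := (toLoc k F).toRingHom.toAlgebra
  have : IsScalarTower F (F ⊗[k] k[X]) (F ⊗[k] Gen k) :=
    IsScalarTower.of_algebraMap_eq' (toLoc k F).comp_algebraMap.symm
  refine IsLocalization.tensorProduct_tensorProduct_right k F (nonZeroDivisors k[X]) (Gen k) ?_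
  ext x
  · simp [RingHom.algebraMap_toAlgebra, toLoc]
  · simp [RingHom.algebraMap_toAlgebra, toLoc]

/-- `A ⊗ K(t)` is a domain when `A` is. -/
theorem isDomain [IsDomain F] : IsDomain (F ⊗[k] Gen k) := by
  let _ : Algebra (F ⊗[k] k[X]) (F ⊗[k] Gen k) := (toLoc k F).toRingHom.toAlgebra
  have hloc := isLocalization k F
  have hdom : IsDomain (F ⊗[k] k[X]) :=
    (polyEquivTensor k F).symm.toRingEquiv.toMulEquiv.isDomain _
  have hle : (nonZeroDivisors k[X]).map
      (Algebra.TensorProduct.includeRight (R := k) (A := F)) ≤ nonZeroDivisors (F ⊗[k] k[X]) := by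
    rintro _ ⟨p, hp, rfl⟩
    rw [mem_nonZeroDivisors_iff_ne_zero]
    intro h
    have hinj : Function.Injective (Algebra.TensorProduct.includeRight : k[X] →ₐ[k] F ⊗[k] k[X]) :=
      Algebra.TensorProduct.includeRight_injective (algebraMap k F).injective
    exact nonZeroDivisors.ne_zero hp (hinj (by rw [map_zero]; exact h))
  exact IsLocalization.isDomain_of_le_nonZeroDivisors _ hle

/-- The ideal generated by `f ⊗ 1 + 1 ⊗ t` is the unit ideal or prime. -/
theorem top_or_prime [IsDomain F] (f : F) :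
    Ideal.span {f ⊗ₜ[k] (1 : Gen k) + (1 : F) ⊗ₜ[k] t k} = ⊤ ∨
      (Ideal.span {f ⊗ₜ[k] (1 : Gen k) + (1 : F) ⊗ₜ[k] t k}).IsPrime := by
  let _ : Algebra (F ⊗[k] k[X]) (F ⊗[k] Gen k) := (toLoc k F).toRingHom.toAlgebra
  have hloc := isLocalization k F
  set M : Submonoid (F ⊗[k] k[X]) := (nonZeroDivisors k[X]).map
      (Algebra.TensorProduct.includeRight (R := k) (A := F)) with hM
  set x : F ⊗[k] k[X] := f ⊗ₜ[k] (1 : k[X]) + (1 : F) ⊗ₜ[k] (X : k[X]) with hx
  have hprime : (Ideal.span {x}).IsPrime := by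
    have h1 : Prime (X - C (-f) : F[X]) := Polynomial.prime_X_sub_C _
    have h2 : polyEquivTensor k F (X - C (-f)) = x := by
      rw [hx, C_neg, sub_neg_eq_add, map_add, polyEquivTensor_apply, polyEquivTensor_apply]
      simp [add_comm]
    have h3 : Prime x := by
      rw [← h2]
      exact (MulEquiv.prime_iff (polyEquivTensor k F).toRingEquiv.toMulEquiv).mpr h1
    exact (Ideal.span_singleton_prime h3.ne_zero).mpr h3
  have hmap : (Ideal.span {x}).map (algebraMap (F ⊗[k] k[X]) (F ⊗[k] Gen k)) =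
      Ideal.span {f ⊗ₜ[k] (1 : Gen k) + (1 : F) ⊗ₜ[k] t k} := by
    rw [Ideal.map_span, Set.image_singleton]
    congr 2
    rw [hx, map_add]
    simp [RingHom.algebraMap_toAlgebra, toLoc, t]
  by_cases hd : Disjoint (M : Set (F ⊗[k] k[X])) (Ideal.span {x} : Ideal (F ⊗[k] k[X]))
  · right
    rw [← hmap]
    exact IsLocalization.isPrime_of_isPrime_disjoint M (F ⊗[k] Gen k) _ hprime hd
  · left
    rw [← hmap]
    by_contra hne
    exact hd ((IsLocalization.map_algebraMap_ne_top_iff_disjoint M (F ⊗[k] Gen k) _).mp hne)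

end

end Groth.Agent.Pic13.H956.GenAlg
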