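import Groth.Agent.Pic13.H956.GenAlg
import Groth.Agent.Fdesc.BaseField
import Groth.Agent.Flat2G.ProperDim
import Mathlib.AlgebraicGeometry.Geometrically.Integral
import Mathlib.AlgebraicGeometry.Morphisms.Proper
import Mathlib.AlgebraicGeometry.Noetherian

/-!
# The generic extension `K(t)`: schemes

For a `K`-scheme `X`, `XG K X = X ×_K K(t)` with projection `pr K X : XG K X ⟶ X`.
* `XG K X` is integral if `X` is (and `X` is locally of finite type over `K`);
* preimages of irreducible sets under `pr` are irreducible;
* the dimension does not change.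
-/

set_option autoImplicit false

universe u

open CategoryTheory CategoryTheory.Limits AlgebraicGeometry TopologicalSpace TensorProduct

namespace Groth.Agent.Pic13.H956.GenExt

open Groth.Agent.Pic13.H956.GenAlg

variable (k : Type u) [Field k]

/-- `Spec K(t) ⟶ Spec K`. -/
noncomputable def σ : Spec (CommRingCat.of (Gen k)) ⟶ Spec (CommRingCat.of k) :=
  Spec.map (CommRingCat.ofHom (algebraMap k (Gen k)))

instance : Flat (σ k) := Fdesc.BaseField.flat_of_field _

instance : IsAffineHom (σ k) := inferInstanceAs (IsAffineHom (Spec.map _))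

instance : UniversallyOpen (σ k) := Fdesc.BaseField.universallyOpen_of_field _

instance : GeometricallyIntegral (σ k) := by
  refine ⟨geometrically_iff_of_commRing.mpr fun K _ _ Z fst snd h => ?_⟩
  have h1 : IsDomain (K ⊗[k] Gen k) := GenAlg.isDomain k K
  have h2 : IsDomain (Gen k ⊗[k] K) := (Algebra.TensorProduct.comm k (Gen k) K).toRingEquiv.toMulEquiv.isDomain _
  have h3 : IsIntegral (Spec (CommRingCat.of (Gen k ⊗[k] K))) := inferInstance
  have e := h.isoPullback ≪≫ pullbackSpecIso k (Gen k) K
  have : Nonempty Z := ⟨e.inv (Classical.arbitrary _)⟩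
  exact isIntegral_of_isOpenImmersion e.hom

variable (X : Scheme.{u}) [X.Over (Spec (CommRingCat.of k))]

/-- `X ×_K K(t)`. -/
noncomputable abbrev XG : Scheme.{u} := pullback (X ↘ Spec (CommRingCat.of k)) (σ k)

/-- The projection `X ×_K K(t) ⟶ X`. -/
noncomputable abbrev pr : XG k X ⟶ X := pullback.fst (X ↘ Spec (CommRingCat.of k)) (σ k)

noncomputable instance : (XG k X).Over (Spec (CommRingCat.of (Gen k))) :=
  ⟨pullback.snd (X ↘ Spec (CommRingCat.of k)) (σ k)⟩

theorem isPullback : IsPullback (pr k X) (XG k X ↘ Spec (CommRingCat.of (Gen k)))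
    (X ↘ Spec (CommRingCat.of k)) (σ k) := IsPullback.of_hasPullback _ _

instance [IsProper (X ↘ Spec (CommRingCat.of k))] : IsProper (XG k X ↘ Spec (CommRingCat.of (Gen k))) :=
  inferInstanceAs (IsProper (pullback.snd (X ↘ Spec (CommRingCat.of k)) (σ k)))

instance : Flat (pr k X) := inferInstance
instance : IsAffineHom (pr k X) := MorphismProperty.pullback_fst _ _ inferInstance
instance : Surjective (pr k X) := inferInstance

instance isIntegral_XG [LocallyOfFiniteType (X ↘ Spec (CommRingCat.of k))] [IsIntegral X] : IsIntegral (XG k X) := by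
  have : IsLocallyNoetherian X := LocallyOfFiniteType.isLocallyNoetherian (X ↘ Spec (CommRingCat.of k))
  infer_instance

theorem isIrreducible_preimage {W : Set X} (hW : IsIrreducible W) : IsIrreducible (pr k X ⁻¹' W) :=
  (pr k X).isIrreducible_preimage (pr k X).isOpenMap hW

theorem dim_XG [LocallyOfFiniteType (X ↘ Spec (CommRingCat.of k))] :
    topologicalKrullDim (XG k X) = topologicalKrullDim X :=
  Flat2G.ProperDim.topologicalKrullDim_eq_of_isPullback_field (K := CommRingCat.of k) (L := CommRingCat.of (Gen k))
    (Field.toIsField k) (Field.toIsField (Gen k)) (X ↘ Spec (CommRingCat.of k)) _ (pr k X) _ (isPullback k X)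

/-- The preimage of the range of a closed immersion has the dimension of the source. -/
theorem dim_preimage [LocallyOfFiniteType (X ↘ Spec (CommRingCat.of k))] {Y : Scheme.{u}} (i : Y ⟶ X)
    [IsClosedImmersion i] : topologicalKrullDim (pr k X ⁻¹' Set.range i : Set (XG k X)) = topologicalKrullDim Y := by
  let _ : Y.Over (Spec (CommRingCat.of k)) := ⟨i ≫ X ↘ Spec (CommRingCat.of k)⟩
  have : LocallyOfFiniteType (Y ↘ Spec (CommRingCat.of k)) :=
    inferInstanceAs (LocallyOfFiniteType (i ≫ X ↘ Spec (CommRingCat.of k)))
  have hp : IsPullback (pullback.fst (pr k X) i) (pullback.snd (pr k X) i) (pr k X) i :=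
    IsPullback.of_hasPullback _ _
  have h1 := hp.flip.paste_vert (isPullback k X)
  have h2 : topologicalKrullDim (pullback (pr k X) i : Scheme.{u}) = topologicalKrullDim Y :=
    Flat2G.ProperDim.topologicalKrullDim_eq_of_isPullback_field (K := CommRingCat.of k) (L := CommRingCat.of (Gen k))
      (Field.toIsField k) (Field.toIsField (Gen k)) (Y ↘ Spec (CommRingCat.of k)) _ (pullback.snd (pr k X) i) _ h1
  rw [← h2]
  have h3 : Set.range (pullback.fst (pr k X) i) = pr k X ⁻¹' Set.range i := Scheme.Pullback.range_fst _ _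
  rw [← h3]
  exact (IsHomeomorph.topologicalKrullDim_eq _
    (pullback.fst (pr k X) i).isClosedEmbedding.isEmbedding.toHomeomorph.isHomeomorph).symm

end Groth.Agent.Pic13.H956.GenExt
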