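import Groth.Agent.Pic13.H956.GenSec
import Groth.Agent.Fga.DimLt
import Groth.Agent.Fga.DimCut
import Mathlib.AlgebraicGeometry.Morphisms.UniversallyOpen

/-!
# Irreducibility and dimension of the generic member of a pencil
-/

set_option autoImplicit false
universe u
open CategoryTheory CategoryTheory.Limits AlgebraicGeometry Opposite TopologicalSpace

namespace Groth.Agent.Pic13.H956.GenMem

open Groth.Agent.Fdesc.LocGen Groth.Agent.Pic13.H956.GenExt Groth.Agent.Pic13.H956.GenAlg
open Groth.Agent.Pic13.H956.GenSec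

variable (k : Type u) [Field k] (X : Scheme.{u}) [X.Over (Spec (CommRingCat.of k))]
  [IsProper (X ↘ Spec (CommRingCat.of k))] [IsIntegral X] {N : X.Modules}

theorem pr_genericPoint : pr k X (genericPoint (XG k X)) = genericPoint X := by
  have h1 : IsGenericPoint (pr k X (genericPoint (XG k X))) (Set.univ : Set X) := by
    have h2 := (genericPoint_spec (XG k X)).image (pr k X).continuous
    have h3 : closure ((pr k X) '' Set.univ) = Set.univ := by
      rw [Set.image_univ, (pr k X).surjective.range_eq, closure_univ]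
    rw [h3] at h2
    exact h2
  exact h1.eq (genericPoint_spec X)

theorem isIrreducible_zero (hN : PicF.IsInvertible N) (s₀ s₁ : Coh.structureModule X ⟶ N)
    (haff : IsAffineOpen (CohB1.genLocus N s₁)) (hη : genericPoint X ∈ CohB1.genLocus N s₁)
    (hcodim : ∀ x, x ∉ CohB1.genLocus _ s₀ → x ∉ CohB1.genLocus _ s₁ → ∃ y, y ⤳ x ∧ y ≠ x ∧ y ≠ genericPoint X)
    {x₀ : X} (h₀ : x₀ ∉ CohB1.genLocus _ s₀) (h₁ : x₀ ∉ CohB1.genLocus _ s₁) :
    IsIrreducible (CohB1.genLocus _ (genSec k s₀ s₁) : Set (XG k X))ᶜ := by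
  have := Fga.HypSec.isNoetherian (Gen k) (XG k X)
  have hN' := isInvertible_pullback (pr k X) hN
  obtain ⟨hpre, -⟩ := isPreirreducible_inter k hN s₀ s₁ haff hη
  have hcl : IsClosed (CohB1.genLocus _ (genSec k s₀ s₁) : Set (XG k X))ᶜ :=
    (CohB1.genLocus _ (genSec k s₀ s₁)).isOpen.isClosed_compl
  constructor
  · obtain ⟨z, hz⟩ := (pr k X).surjective x₀
    refine ⟨z, not_mem_of_not_mem k hN s₀ s₁ z ?_ ?_⟩
    · change pr k X z ∉ CohB1.genLocus N s₀
      rw [hz]; exact h₀
    · change pr k X z ∉ CohB1.genLocus N s₁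
      rw [hz]; exact h₁
  · obtain ⟨P, hPfin, hP, hPx⟩ := TwoSec.exists_generic_points (X := XG k X) _ hcl
    have hPW : ∀ p ∈ P, p ∈ pr k X ⁻¹ᵁ CohB1.genLocus N s₁ := by
      intro p hp
      by_contra hcon
      obtain ⟨hp1, hp2⟩ := hP p hp
      have h2 := KrullPt.stalk_le_one hN' (genSec k s₀ s₁) p hp1 fun w hw hw' => hp2 w hw' hw
      have h3 := mem_of_not_mem k hN s₀ s₁ p hcon hp1
      obtain ⟨y, hy, hyx, hyη⟩ := hcodim (pr k X p) h3 hcon
      obtain ⟨y', hy', rfl⟩ := Flat.generalizingMap (pr k X) hy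
      have h4 := KrullPt.two_le_stalk hy' (fun h => hyx (by rw [h])) (fun h => hyη (by rw [h, pr_genericPoint]))
      have h5 := h4.trans h2
      have h6 : (2 : ℕ) ≤ 1 := by exact_mod_cast h5
      omega
    have heq : (CohB1.genLocus _ (genSec k s₀ s₁) : Set (XG k X))ᶜ =
        closure {z : XG k X | z ∈ pr k X ⁻¹ᵁ CohB1.genLocus N s₁ ∧ z ∉ CohB1.genLocus _ (genSec k s₀ s₁)} := by
      apply Set.Subset.antisymm
      · intro z hz
        obtain ⟨p, hp, hpz⟩ := hPx z hz
        have h1 : closure {p} ⊆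
            closure {z : XG k X | z ∈ pr k X ⁻¹ᵁ CohB1.genLocus N s₁ ∧ z ∉ CohB1.genLocus _ (genSec k s₀ s₁)} := by
          apply closure_mono
          rw [Set.singleton_subset_iff]
          exact ⟨hPW p hp, (hP p hp).1⟩
        exact h1 (specializes_iff_mem_closure.mp hpz)
      · rw [hcl.closure_subset_iff]
        rintro z ⟨-, hz⟩
        exact hz
    rw [heq]
    exact hpre.closure

/-- The zero locus of a section of an invertible module, nonzero at the generic point, has dimension exactly one less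
if it is not empty. -/
theorem dim_zero (Z : Scheme.{u}) [Z.Over (Spec (CommRingCat.of k))] [IsProper (Z ↘ Spec (CommRingCat.of k))]
    [IsIntegral Z] {M : Z.Modules} (hM : PicF.IsInvertible M) (s : Coh.structureModule Z ⟶ M)
    (hη : genericPoint Z ∈ CohB1.genLocus M s) {z₀ : Z} (hz₀ : z₀ ∉ CohB1.genLocus M s) (n : ℕ)
    (hZ : topologicalKrullDim Z = ((n + 1 : ℕ) : WithBot ℕ∞)) :
    topologicalKrullDim ((CohB1.genLocus M s : Set Z)ᶜ : Set Z) = n := by
  have := Fga.HypSec.isNoetherian k Z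
  have hcl : IsClosed (CohB1.genLocus M s : Set Z)ᶜ := (CohB1.genLocus M s).isOpen.isClosed_compl
  apply le_antisymm
  · refine Fga.DimCut.dim_le_of_forall_not_subset _ hcl (fun W hW hsub => ?_) n hZ.le
    have h1 : W = Set.univ := by
      have h2 : irreducibleComponents Z = {Set.univ} := irreducibleComponents_eq_singleton
      rw [h2] at hW
      exact hW
    rw [h1] at hsub
    exact hsub (Set.mem_univ (genericPoint Z)) hη
  · obtain ⟨x, hx, hxcl⟩ := IsClosed.exists_closed_singleton hcl ⟨z₀, hz₀⟩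
    obtain ⟨U, hxU, e, a, he, ha, hUa, hmax⟩ := Fga.RegSec.exists_gen_of_not_mem s hM hx
    exact Fga.DimCut.le_dim_of_local_equation k Z x hxcl U hxU a
      (fun h => hx (by rw [← hUa] at h; exact h.1)) (CohB1.genLocus M s : Set Z)ᶜ
      (fun y hy hya (hy' : y ∈ CohB1.genLocus M s) => hya (by rw [← hUa]; exact ⟨hy', hy⟩)) n hZ.ge

end Groth.Agent.Pic13.H956.GenMem
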