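import Groth.Agent.Pic13.H956.GenAlg
import Mathlib.Algebra.Category.Ring.Constructions

/-!
# The generic extension `K(t)`: pushout form
-/

set_option autoImplicit false

universe u v

namespace Groth.Agent.Pic13.H956.GenPush

open TensorProduct Polynomial CategoryTheory CategoryTheory.Limits Groth.Agent.Pic13.H956.GenAlg

variable (k : Type u) [Field k]

/-- `f ⊗ 1 + 1 ⊗ t` is not zero. -/
theorem add_ne_zero (F : Type v) [CommRing F] [IsDomain F] [Algebra k F] (f : F) :
    f ⊗ₜ[k] (1 : Gen k) + (1 : F) ⊗ₜ[k] t k ≠ 0 := by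
  let _ : Algebra (F ⊗[k] k[X]) (F ⊗[k] Gen k) := (toLoc k F).toRingHom.toAlgebra
  have hloc := isLocalization k F
  have hdom : IsDomain (F ⊗[k] k[X]) :=
    (polyEquivTensor k F).symm.toRingEquiv.toMulEquiv.isDomain _
  have hle : (nonZeroDivisors k[X]).map
      (Algebra.TensorProduct.includeRight (R := k) (A := F)) ≤ nonZeroDivisors (F ⊗[k] k[X]) := by
    rintro _ ⟨p, hp, rfl⟩
    rw [mem_nonZeroDivisors_iff_ne_zero]
    intro h
    have hinj : Function.Injective (Algebra.TensorProduct.includeRight : k[X] →ₐ[k] F ⊗[k] k[X]) :=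
      Algebra.TensorProduct.includeRight_injective (algebraMap k F).injective
    exact nonZeroDivisors.ne_zero hp (hinj (by rw [map_zero]; exact h))
  have hinj := IsLocalization.injective (F ⊗[k] Gen k) hle
  intro h
  have h1 : algebraMap (F ⊗[k] k[X]) (F ⊗[k] Gen k) (f ⊗ₜ[k] (1 : k[X]) + (1 : F) ⊗ₜ[k] (X : k[X])) = 0 := by
    rw [← h, map_add]
    simp [RingHom.algebraMap_toAlgebra, toLoc, t]
  have h2 : f ⊗ₜ[k] (1 : k[X]) + (1 : F) ⊗ₜ[k] (X : k[X]) = 0 := hinj (by rw [h1, map_zero])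
  have h3 : polyEquivTensor k F (X - C (-f)) = 0 := by
    rw [← h2, C_neg, sub_neg_eq_add, map_add, polyEquivTensor_apply, polyEquivTensor_apply]
    simp [add_comm]
  have h4 : (X - C (-f) : F[X]) = 0 := (polyEquivTensor k F).injective (by rw [h3, map_zero])
  exact Polynomial.X_sub_C_ne_zero _ h4

variable {k}

section

variable {A P : CommRingCat.{u}} {a : CommRingCat.of k ⟶ A} {inl : A ⟶ P}
  {inr : CommRingCat.of (Gen k) ⟶ P}
  (h : IsPushout a (CommRingCat.ofHom (algebraMap k (Gen k))) inl inr)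

include h in
theorem exists_equiv : ∃ (_ : Algebra k A) (e : (A ⊗[k] Gen k) ≃+* P),
    (∀ x : A, e (x ⊗ₜ 1) = inl x) ∧ ∀ y : Gen k, e (1 ⊗ₜ y) = inr y := by
  let _ : Algebra k A := a.hom.toAlgebra
  have h' := CommRingCat.isPushout_tensorProduct k A (Gen k)
  have ha : CommRingCat.ofHom (algebraMap k A) = a := rfl
  rw [ha] at h'
  refine ⟨inferInstance, (h'.isoIsPushout _ _ h).commRingCatIsoToRingEquiv, fun x => ?_, fun y => ?_⟩
  · exact congr($(h'.inl_isoIsPushout_hom _ _ h).hom x)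
  · exact congr($(h'.inr_isoIsPushout_hom _ _ h).hom y)

include h in
theorem top_or_prime [IsDomain A] (f : A) :
    Ideal.span {inl f + inr (t k)} = ⊤ ∨ (Ideal.span {inl f + inr (t k)}).IsPrime := by
  obtain ⟨_, e, h1, h2⟩ := exists_equiv h
  have h3 : inl f + inr (t k) = e (f ⊗ₜ[k] (1 : Gen k) + (1 : A) ⊗ₜ[k] t k) := by
    rw [map_add, h1, h2]
  have h4 : Ideal.span {inl f + inr (t k)} =
      Ideal.map (e : (A ⊗[k] Gen k) →+* P) (Ideal.span {f ⊗ₜ[k] (1 : Gen k) + (1 : A) ⊗ₜ[k] t k}) := by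
    rw [Ideal.map_span, Set.image_singleton, h3]
    rfl
  rcases GenAlg.top_or_prime k A f with h5 | h5
  · left
    rw [h4, h5, Ideal.map_top]
  · right
    rw [h4]
    exact Ideal.map_isPrime_of_equiv e

include h in
theorem ne_zero [IsDomain A] (f : A) : inl f + inr (t k) ≠ 0 := by
  obtain ⟨_, e, h1, h2⟩ := exists_equiv h
  have h3 : inl f + inr (t k) = e (f ⊗ₜ[k] (1 : Gen k) + (1 : A) ⊗ₜ[k] t k) := by
    rw [map_add, h1, h2]
  rw [h3]
  intro h4
  exact add_ne_zero k A f (e.injective (by rw [h4, map_zero]))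

end

end Groth.Agent.Pic13.H956.GenPush
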