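import Groth.Agent.Fga.RegSec
import Mathlib.RingTheory.Ideal.KrullsHeightTheorem
import Mathlib.AlgebraicGeometry.FunctionField

/-!
# Codimension one points and zero loci of sections of invertible modules

* `stalk_le_one`: at a generic point of a component of the zero locus of a section of an invertible module the local
  ring has dimension `≤ 1`;
* `two_le_stalk`: a chain of two strict generizations gives dimension `≥ 2`.
-/

set_option autoImplicit false
universe u
open CategoryTheory CategoryTheory.Limits AlgebraicGeometry Opposite TopologicalSpace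

namespace Groth.Agent.Pic13.H956.KrullPt

open Groth.Agent.Fdesc.LocGen Groth.Agent.Fga.RegSec

variable {X : Scheme.{u}}

/-- Points of `Spec O_{X,z}` lying in a basic open. -/
theorem fromSpecStalk_mem_basicOpen {U : X.Opens} (z : X) (hz : z ∈ U) (a : Γ(X, U))
    (Q : PrimeSpectrum (X.presheaf.stalk z)) :
    X.fromSpecStalk z Q ∈ X.basicOpen a ↔ X.presheaf.germ U z hz a ∉ Q.asIdeal := by
  have h1 : X.fromSpecStalk z Q ∈ X.basicOpen a ↔
      (Q : Spec (X.presheaf.stalk z)) ∈ X.fromSpecStalk z ⁻¹ᵁ X.basicOpen a := Iff.rfl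
  rw [h1, Scheme.preimage_basicOpen]
  have h2 : (X.fromSpecStalk z).app U a =
      (Spec (X.presheaf.stalk z)).presheaf.map (homOfLE (le_top : X.fromSpecStalk z ⁻¹ᵁ U ≤ ⊤)).op
        ((Scheme.ΓSpecIso (X.presheaf.stalk z)).inv (X.presheaf.germ U z hz a)) := by
    rw [Scheme.fromSpecStalk_app hz]
    rfl
  rw [h2, Scheme.basicOpen_res, basicOpen_eq_of_affine]
  constructor
  · intro h
    exact h.2
  · intro h
    refine ⟨?_, h⟩
    have h3 : X.fromSpecStalk z Q ⤳ z := by
      have : X.fromSpecStalk z Q ∈ Set.range (X.fromSpecStalk z) := ⟨_, rfl⟩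
      rwa [Scheme.range_fromSpecStalk] at this
    exact h3.mem_open U.isOpen hz

theorem stalk_le_one [IsLocallyNoetherian X] {N : X.Modules} (hN : PicF.IsInvertible N)
    (s : Coh.structureModule X ⟶ N) (z : X) (hz : z ∉ CohB1.genLocus N s)
    (hmin : ∀ w : X, w ⤳ z → w ∉ CohB1.genLocus N s → w = z) :
    ringKrullDim (X.presheaf.stalk z) ≤ 1 := by
  obtain ⟨U, hzU, e, a, he, ha, hUa, hmax⟩ := exists_gen_of_not_mem s hN hz
  set b := X.presheaf.germ U z hzU a with hb
  have hinj : Function.Injective (X.fromSpecStalk z) := (X.fromSpecStalk z).isEmbedding.injective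
  have hm : IsLocalRing.maximalIdeal (X.presheaf.stalk z) ∈ (Ideal.span {b}).minimalPrimes := by
    refine ⟨⟨inferInstance, ?_⟩, ?_⟩
    · rw [Ideal.span_singleton_le_iff_mem]
      exact hmax
    · rintro Q ⟨hQ, hbQ⟩ -
      have h1 : X.fromSpecStalk z ⟨Q, hQ⟩ ∉ X.basicOpen a := by
        rw [fromSpecStalk_mem_basicOpen z hzU, not_not]
        exact hbQ (Ideal.mem_span_singleton_self b)
      have h3 : X.fromSpecStalk z ⟨Q, hQ⟩ ⤳ z := by
        have : X.fromSpecStalk z ⟨Q, hQ⟩ ∈ Set.range (X.fromSpecStalk z) := ⟨_, rfl⟩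
        rwa [Scheme.range_fromSpecStalk] at this
      have h4 : X.fromSpecStalk z ⟨Q, hQ⟩ = z := by
        refine hmin _ h3 fun h => h1 ?_
        rw [← hUa]
        exact ⟨h, h3.mem_open U.isOpen hzU⟩
      have h5 : X.fromSpecStalk z (IsLocalRing.closedPoint (X.presheaf.stalk z)) = z :=
        Scheme.fromSpecStalk_closedPoint
      have h6 : (⟨Q, hQ⟩ : PrimeSpectrum (X.presheaf.stalk z)) =
          IsLocalRing.closedPoint (X.presheaf.stalk z) := hinj (h4.trans h5.symm)
      exact (congrArg PrimeSpectrum.asIdeal h6).ge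
  have h1 : (IsLocalRing.maximalIdeal (X.presheaf.stalk z)).height ≤ 1 := by
    have : (Ideal.span {b}).IsPrincipal := ⟨⟨b, rfl⟩⟩
    exact Ideal.height_le_one_of_isPrincipal_of_mem_minimalPrimes _ _ hm
  rw [← IsLocalRing.maximalIdeal_height_eq_ringKrullDim]
  exact_mod_cast h1

theorem two_le_stalk [IsIntegral X] {x y : X} (h : y ⤳ x) (hne : y ≠ x) (hη : y ≠ genericPoint X) :
    2 ≤ ringKrullDim (X.presheaf.stalk x) := by
  have hind : Topology.IsInducing (X.fromSpecStalk x) := (X.fromSpecStalk x).isEmbedding.isInducing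
  have key : ∀ w : X, w ⤳ x → ∃ Q : PrimeSpectrum (X.presheaf.stalk x), X.fromSpecStalk x Q = w := by
    intro w hw
    have : w ∈ Set.range (X.fromSpecStalk x) := by rw [Scheme.range_fromSpecStalk]; exact hw
    exact this
  obtain ⟨Qx, hQx⟩ := key x specializes_rfl
  obtain ⟨Qy, hQy⟩ := key y h
  obtain ⟨Qη, hQη⟩ := key (genericPoint X) (genericPoint_specializes x)
  have hle : ∀ Q Q' : PrimeSpectrum (X.presheaf.stalk x),
      X.fromSpecStalk x Q ⤳ X.fromSpecStalk x Q' → Q ≤ Q' := fun Q Q' hQ => by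
    rw [PrimeSpectrum.le_iff_specializes]
    exact hind.specializes_iff.mp hQ
  have h1 : Qη < Qy := lt_of_le_of_ne (hle _ _ (by rw [hQη, hQy]; exact genericPoint_specializes y))
    (fun h0 => hη (hQy.symm.trans ((congrArg (X.fromSpecStalk x) h0.symm).trans hQη)))
  have h2 : Qy < Qx := lt_of_le_of_ne (hle _ _ (by rw [hQx, hQy]; exact h))
    (fun h0 => hne (hQy.symm.trans ((congrArg (X.fromSpecStalk x) h0).trans hQx)))
  let p : LTSeries (PrimeSpectrum (X.presheaf.stalk x)) :=
    ((RelSeries.singleton _ Qη).snoc Qy h1).snoc Qx (by simpa using h2)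
  have h3 := Order.LTSeries.length_le_krullDim p
  have h4 : p.length = 2 := rfl
  rw [h4] at h3
  exact_mod_cast h3

end Groth.Agent.Pic13.H956.KrullPt
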