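import Groth.Agent.S2324
import Groth.Agent.CycA.IntLocal
import Groth.Agent.Ega2.SecCalc
import Groth.Agent.Fga.DimLt
import Groth.Agent.Fga.HypSec
import Groth.Agent.Pic13.H956.KrullPt

/-!
# Two sections through a curve without common divisor

On an integral proper scheme `X` of dimension `≥ 3` over a field with an ample module `H`, and a closed subscheme
`Y ⊂ X` of dimension `≤ 1`, there are two sections `s₀, s₁` of some power `H^(m+1)` vanishing along `Y` whose common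
zero locus has codimension `≥ 2`.
-/

set_option autoImplicit false
universe u
open CategoryTheory CategoryTheory.Limits AlgebraicGeometry Opposite TopologicalSpace

namespace Groth.Agent.Pic13.H956.TwoSec

/-- Generic points of a closed subset of a Noetherian sober space. -/
theorem exists_generic_points {X : Type u} [TopologicalSpace X] [NoetherianSpace X] [QuasiSober X] [T0Space X]
    (T : Set X) (hT : IsClosed T) :
    ∃ P : Set X, P.Finite ∧ (∀ p ∈ P, p ∈ T ∧ ∀ w ∈ T, w ⤳ p → w = p) ∧ ∀ x ∈ T, ∃ p ∈ P, p ⤳ x := by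
  have : QuasiSober T := hT.isClosedEmbedding_subtypeVal.quasiSober
  have hfin : (irreducibleComponents T).Finite := NoetherianSpace.finite_irreducibleComponents
  have : Finite (irreducibleComponents T) := hfin
  have hex : ∀ Z : irreducibleComponents T, ∃ p : T, IsGenericPoint p (Z : Set T) := fun Z =>
    QuasiSober.sober Z.2.1 (isClosed_of_mem_irreducibleComponents _ Z.2)
  choose g hg using hex
  refine ⟨Set.range fun Z => (g Z : X), Set.finite_range _, ?_, ?_⟩
  · rintro _ ⟨Z, rfl⟩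
    refine ⟨(g Z).2, fun w hw hwp => ?_⟩
    have h1 : (⟨w, hw⟩ : T) ⤳ g Z := Topology.IsInducing.subtypeVal.specializes_iff.mp hwp
    have h2 : (Z : Set T) ⊆ closure {(⟨w, hw⟩ : T)} := by
      rw [← (hg Z).def]
      exact h1.closure_subset
    have h3 : closure {(⟨w, hw⟩ : T)} ⊆ (Z : Set T) := Z.2.2 isIrreducible_singleton.closure h2
    have h4 : IsGenericPoint (⟨w, hw⟩ : T) (Z : Set T) := (h3.antisymm h2 : closure _ = _)
    exact congrArg Subtype.val (h4.eq (hg Z))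
  · intro x hx
    let Z : irreducibleComponents T := ⟨irreducibleComponent ⟨x, hx⟩, irreducibleComponent_mem_irreducibleComponents _⟩
    refine ⟨g Z, ⟨Z, rfl⟩, ?_⟩
    have h1 : (⟨x, hx⟩ : T) ∈ (Z : Set T) := mem_irreducibleComponent
    have h2 : g Z ⤳ (⟨x, hx⟩ : T) := (hg Z).specializes h1
    exact h2.map continuous_subtype_val

variable (k : Type u) [Field k]

theorem dim_range {X Y : Scheme.{u}} (ι : Y ⟶ X) [IsClosedImmersion ι] :
    topologicalKrullDim (Set.range ι : Set X) = topologicalKrullDim Y :=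
  (IsHomeomorph.topologicalKrullDim_eq _ ι.isClosedEmbedding.isEmbedding.toHomeomorph.isHomeomorph).symm

theorem dim_closure_le {X Y : Scheme.{u}} (ι : Y ⟶ X) [IsClosedImmersion ι] (y : Y) :
    topologicalKrullDim (closure {ι y} : Set X) ≤ topologicalKrullDim Y := by
  rw [← dim_range ι]
  refine Fga.DimLt.topologicalKrullDim_mono ?_
  rw [ι.isClosedEmbedding.isClosed_range.closure_subset_iff, Set.singleton_subset_iff]
  exact ⟨y, rfl⟩

theorem exists_two (X : Scheme.{u}) [X.Over (Spec (CommRingCat.of k))] [IsProper (X ↘ Spec (CommRingCat.of k))]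
    [IsIntegral X] {H : X.Modules} (hH : CohB1.IsAmple H) (n : ℕ)
    (hX : topologicalKrullDim X = ((n + 3 : ℕ) : WithBot ℕ∞))
    {Y : Scheme.{u}} (ι : Y ⟶ X) [IsClosedImmersion ι] (hY : topologicalKrullDim Y ≤ ((1 : ℕ) : WithBot ℕ∞)) :
    ∃ (m : ℕ) (s₀ s₁ : Coh.structureModule X ⟶ CohB1.tensorPow H (m + 1)),
      genericPoint X ∈ CohB1.genLocus _ s₀ ∧ genericPoint X ∈ CohB1.genLocus _ s₁ ∧
      (∀ y, ι y ∉ CohB1.genLocus _ s₀) ∧ (∀ y, ι y ∉ CohB1.genLocus _ s₁) ∧
      IsAffineOpen (CohB1.genLocus _ s₁) ∧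
      ∀ x, x ∉ CohB1.genLocus _ s₀ → x ∉ CohB1.genLocus _ s₁ → ∃ y, y ⤳ x ∧ y ≠ x ∧ y ≠ genericPoint X := by
  have := Fga.HypSec.isNoetherian k X
  have := Fga.HypSec.isSeparated k X
  have hcl := ι.isClosedEmbedding.isClosed_range
  let W : X.Opens := ⟨(Set.range ι)ᶜ, hcl.isOpen_compl⟩
  -- points of small codimension are not on `Y`
  have hdim : ∀ x : X, ringKrullDim (X.presheaf.stalk x) ≤ 1 → x ∉ Set.range ι := by
    rintro _ hx ⟨y, rfl⟩
    obtain ⟨a, t, r, ha, -, ht, hr, har⟩ := CycA.IntLocal.exists_dims (X ↘ Spec (CommRingCat.of k)) (ι y)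
    have h1 := (dim_closure_le ι y).trans hY
    rw [ht] at h1
    rw [ha] at hx
    rw [hX] at hr
    have h2 : t ≤ 1 := by exact_mod_cast h1
    have h3 : a ≤ 1 := by exact_mod_cast hx
    have h4 : n + 3 = r := by exact_mod_cast hr
    omega
  have hη : genericPoint X ∉ Set.range ι := by
    refine hdim _ ?_
    have : ringKrullDim (X.presheaf.stalk (genericPoint X)) = 0 :=
      ringKrullDim_eq_zero_of_field (X.functionField)
    rw [this]
    exact zero_le_one
  obtain ⟨m₀, t₀, hη₀, hW₀, -⟩ := S2324.result X H hH {genericPoint X} (Set.finite_singleton _) W (by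
    rw [Set.singleton_subset_iff]; exact hη)
  have hη₀ : genericPoint X ∈ CohB1.genLocus _ t₀ := hη₀ rfl
  obtain ⟨P, hPfin, hP, hPx⟩ := exists_generic_points (X := X) (CohB1.genLocus _ t₀ : Set X)ᶜ
    (CohB1.genLocus _ t₀).isOpen.isClosed_compl
  have hPW : P ⊆ (W : Set X) := by
    intro p hp
    obtain ⟨hp1, hp2⟩ := hP p hp
    exact hdim p (KrullPt.stalk_le_one (Fdesc.LocGen.isInvertible_tensorPow hH.1 _) t₀ p hp1
      fun w hw hw' => hp2 w hw' hw)
  obtain ⟨m₁, t₁, hη₁, hW₁, haff⟩ := S2324.result X H hH (P ∪ {genericPoint X})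
    (hPfin.union (Set.finite_singleton _)) W (by
      rintro x (hx | hx)
      · exact hPW hx
      · rw [Set.mem_singleton_iff] at hx
        subst hx
        exact hη)
  have e₀ : (m₀ + 1) * (m₁ + 1) = ((m₀ + 1) * (m₁ + 1) - 1) + 1 :=
    (Nat.sub_add_cancel (Nat.succ_le_of_lt (Nat.mul_pos (Nat.succ_pos _) (Nat.succ_pos _)))).symm
  have e₁ : (m₁ + 1) * (m₀ + 1) = ((m₀ + 1) * (m₁ + 1) - 1) + 1 := by rw [mul_comm, ← e₀]
  have g₀ : CohB1.genLocus _ (Ega2.SecCalc.castSec e₀ (Ega2.SecCalc.powSec t₀ (m₁ + 1))) = CohB1.genLocus _ t₀ := by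
    rw [Ega2.SecCalc.genLocus_castSec, Ega2.SecCalc.genLocus_powSec hH.1 _ (Nat.succ_ne_zero _)]
  have g₁ : CohB1.genLocus _ (Ega2.SecCalc.castSec e₁ (Ega2.SecCalc.powSec t₁ (m₀ + 1))) = CohB1.genLocus _ t₁ := by
    rw [Ega2.SecCalc.genLocus_castSec, Ega2.SecCalc.genLocus_powSec hH.1 _ (Nat.succ_ne_zero _)]
  refine ⟨(m₀ + 1) * (m₁ + 1) - 1, Ega2.SecCalc.castSec e₀ (Ega2.SecCalc.powSec t₀ (m₁ + 1)),
    Ega2.SecCalc.castSec e₁ (Ega2.SecCalc.powSec t₁ (m₀ + 1)), ?_, ?_, ?_, ?_, ?_, ?_⟩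
  · rw [g₀]; exact hη₀
  · rw [g₁]; exact hη₁ (Or.inr rfl)
  · intro y hy
    rw [g₀] at hy
    exact hW₀ hy ⟨y, rfl⟩
  · intro y hy
    rw [g₁] at hy
    exact hW₁ hy ⟨y, rfl⟩
  · rw [g₁]; exact haff
  · intro x hx₀ hx₁
    rw [g₀] at hx₀
    rw [g₁] at hx₁
    obtain ⟨p, hp, hpx⟩ := hPx x hx₀
    refine ⟨p, hpx, ?_, ?_⟩
    · rintro rfl
      exact hx₁ (hη₁ (Or.inl hp))
    · rintro rfl
      exact (hP _ hp).1 hη₀

end Groth.Agent.Pic13.H956.TwoSec
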