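import Groth.Agent.Pic13.H956.GenExt
import Groth.Agent.Pic13.H956.GenPush
import Groth.Agent.Pic13.H956.TwoSec
import Groth.Agent.Ega2.WeightPull
import Groth.Agent.Fga.LimSec
import Mathlib.AlgebraicGeometry.Morphisms.Flat

/-!
# The generic member of a pencil

`X` integral and proper over `K`, `s₀, s₁` sections of an invertible module `N`.  On `X ×_K K(t)` the section
`s₀ + t s₁` of `pr^* N`.
-/

set_option autoImplicit false
universe u
open CategoryTheory CategoryTheory.Limits AlgebraicGeometry Opposite TopologicalSpace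

namespace Groth.Agent.Pic13.H956.GenSec

open Groth.Agent.Fdesc.LocGen Groth.Agent.Pic13.H956.GenExt Groth.Agent.Pic13.H956.GenAlg

variable (k : Type u) [Field k] (X : Scheme.{u}) [X.Over (Spec (CommRingCat.of k))]

/-- The function `t` on `X ×_K K(t)`. -/
noncomputable def tt : Γ(XG k X, ⊤) :=
  (XG k X ↘ Spec (CommRingCat.of (Gen k))).appTop ((Scheme.ΓSpecIso (CommRingCat.of (Gen k))).inv (t k))

variable {X} {N : X.Modules}

/-- The generic member `s₀ + t s₁`. -/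
noncomputable def genSec (s₀ s₁ : Coh.structureModule X ⟶ N) :
    Coh.structureModule (XG k X) ⟶ (Scheme.Modules.pullback (pr k X)).obj N :=
  homOf (sec (Ega2.Weight.pullHom (pr k X) s₀) ⊤ + tt k X • sec (Ega2.Weight.pullHom (pr k X) s₁) ⊤)

theorem sec_genSec (s₀ s₁ : Coh.structureModule X ⟶ N) (V : (XG k X).Opens) :
    sec (genSec k s₀ s₁) V = sec (Ega2.Weight.pullHom (pr k X) s₀) V +
      (ores le_top (tt k X) : Γ(XG k X, V)) • sec (Ega2.Weight.pullHom (pr k X) s₁) V := by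
  rw [genSec, sec_homOf, map_add, res_smul, res_sec, res_sec]

/-- Local description. -/
theorem exists_local (hN : PicF.IsInvertible N) (s₀ s₁ : Coh.structureModule X ⟶ N) (z : XG k X) :
    ∃ (U : (XG k X).Opens) (hz : z ∈ U) (e : Γ((Scheme.Modules.pullback (pr k X)).obj N, U))
      (a₀ a₁ : Γ(XG k X, U)), IsGen e ∧
      (z ∈ pr k X ⁻¹ᵁ CohB1.genLocus N s₀ ↔ IsUnit ((XG k X).presheaf.germ U z hz a₀)) ∧
      (z ∈ pr k X ⁻¹ᵁ CohB1.genLocus N s₁ ↔ IsUnit ((XG k X).presheaf.germ U z hz a₁)) ∧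
      (z ∈ CohB1.genLocus _ (genSec k s₀ s₁) ↔
        IsUnit ((XG k X).presheaf.germ U z hz (a₀ + ores le_top (tt k X) * a₁))) := by
  have hN' := isInvertible_pullback (pr k X) hN
  obtain ⟨U, e, hx, he⟩ := (isInvertible_iff _).mp hN' z
  obtain ⟨a, ha⟩ := he.exists_eq (sec (Ega2.Weight.pullHom (pr k X) s₀) U)
  obtain ⟨b, hb⟩ := he.exists_eq (sec (Ega2.Weight.pullHom (pr k X) s₁) U)
  have key : ∀ (r : Coh.structureModule (XG k X) ⟶ (Scheme.Modules.pullback (pr k X)).obj N)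
      (c : Γ(XG k X, U)), sec r U = c • e →
      (z ∈ CohB1.genLocus _ r ↔ IsUnit ((XG k X).presheaf.germ U z hx c)) := by
    intro r c hc
    rw [← Scheme.mem_basicOpen _ _ _ hx, ← genLocus_inf_eq r he hc]
    exact ⟨fun h => ⟨h, hx⟩, fun h => h.1⟩
  refine ⟨U, hx, e, a, b, he, ?_, ?_, key _ _ ?_⟩
  · rw [← key _ a ha, Ega2.Weight.genLocus_pullHom _ hN]
  · rw [← key _ b hb, Ega2.Weight.genLocus_pullHom _ hN]
  · rw [sec_genSec, ha, hb, add_smul, mul_smul]

theorem not_mem_of_not_mem (hN : PicF.IsInvertible N) (s₀ s₁ : Coh.structureModule X ⟶ N) (z : XG k X)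
    (h₀ : z ∉ pr k X ⁻¹ᵁ CohB1.genLocus N s₀) (h₁ : z ∉ pr k X ⁻¹ᵁ CohB1.genLocus N s₁) :
    z ∉ CohB1.genLocus _ (genSec k s₀ s₁) := by
  obtain ⟨U, hz, e, a₀, a₁, he, k₀, k₁, k₂⟩ := exists_local k hN s₀ s₁ z
  rw [k₂, map_add, map_mul]
  rw [k₀] at h₀
  rw [k₁] at h₁
  rw [← mem_nonunits_iff, ← IsLocalRing.mem_maximalIdeal] at h₀ h₁ ⊢
  exact add_mem h₀ (Ideal.mul_mem_left _ _ h₁)

theorem mem_of_not_mem (hN : PicF.IsInvertible N) (s₀ s₁ : Coh.structureModule X ⟶ N) (z : XG k X)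
    (h₁ : z ∉ pr k X ⁻¹ᵁ CohB1.genLocus N s₁) (h₂ : z ∉ CohB1.genLocus _ (genSec k s₀ s₁)) :
    z ∉ pr k X ⁻¹ᵁ CohB1.genLocus N s₀ := by
  obtain ⟨U, hz, e, a₀, a₁, he, k₀, k₁, k₂⟩ := exists_local k hN s₀ s₁ z
  rw [k₂, map_add, map_mul] at h₂
  rw [k₀]
  rw [k₁] at h₁
  rw [← mem_nonunits_iff, ← IsLocalRing.mem_maximalIdeal] at h₁ h₂ ⊢
  have := sub_mem h₂ (Ideal.mul_mem_left _ ((XG k X).presheaf.germ U z hz (ores le_top (tt k X))) h₁)
  rwa [add_sub_cancel_right] at this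

section

variable (X)

/-- The pushout square of rings over an affine open. -/
theorem isPushout_app {W : X.Opens} (hW : IsAffineOpen W) :
    IsPushout ((Scheme.ΓSpecIso (CommRingCat.of k)).inv ≫ (X ↘ Spec (CommRingCat.of k)).appLE ⊤ W le_top)
      (CommRingCat.ofHom (algebraMap k (Gen k))) ((pr k X).app W)
      ((Scheme.ΓSpecIso (CommRingCat.of (Gen k))).inv ≫
        (XG k X ↘ Spec (CommRingCat.of (Gen k))).appLE ⊤ (pr k X ⁻¹ᵁ W) le_top) := by
  have h := Fga.LimSec.isPushout_of_isAffineOpen (isPullback k X) hW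
  have e1 : (pr k X).appLE W (pr k X ⁻¹ᵁ W) le_rfl = (pr k X).app W := Scheme.Hom.appLE_eq_app _
  rw [e1] at h
  refine IsPushout.of_iso h (Scheme.ΓSpecIso (CommRingCat.of k)) (Iso.refl _)
    (Scheme.ΓSpecIso (CommRingCat.of (Gen k))) (Iso.refl _) ?_ ?_ ?_ ?_
  · rw [Iso.refl_hom, Category.comp_id, Iso.hom_inv_id_assoc]
  · have e2 : (σ k).appLE ⊤ ⊤ le_top = (σ k).appTop := Scheme.Hom.appLE_eq_app (σ k)
    rw [e2, σ]
    exact Scheme.ΓSpecIso_naturality _
  · rw [Iso.refl_hom, Iso.refl_hom, Category.comp_id, Category.id_comp]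
  · rw [Iso.refl_hom, Category.comp_id, Iso.hom_inv_id_assoc]

theorem ores_tt (V : (XG k X).Opens) : ores le_top (tt k X) =
    ((Scheme.ΓSpecIso (CommRingCat.of (Gen k))).inv ≫
        (XG k X ↘ Spec (CommRingCat.of (Gen k))).appLE ⊤ V le_top) (t k) := rfl

end

variable [IsIntegral X] [LocallyOfFiniteType (X ↘ Spec (CommRingCat.of k))]

/-- Over `X_{s₁}` (affine) the zero locus of the generic member is irreducible or empty. -/
theorem isPreirreducible_inter (hN : PicF.IsInvertible N) (s₀ s₁ : Coh.structureModule X ⟶ N)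
    (haff : IsAffineOpen (CohB1.genLocus N s₁)) (hη : genericPoint X ∈ CohB1.genLocus N s₁) :
    IsPreirreducible {z : XG k X | z ∈ pr k X ⁻¹ᵁ CohB1.genLocus N s₁ ∧ z ∉ CohB1.genLocus _ (genSec k s₀ s₁)} ∧
      ∃ z : XG k X, z ∈ CohB1.genLocus _ (genSec k s₀ s₁) := by
  set W := CohB1.genLocus N s₁ with hW
  have hgen : IsGen (sec s₁ W) := isGen_sec_genLocus s₁
  obtain ⟨f, hf⟩ := hgen.exists_eq (sec s₀ W)
  set a : Γ(XG k X, pr k X ⁻¹ᵁ W) := (pr k X).app W f + ores le_top (tt k X) with ha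
  have hsec : sec (genSec k s₀ s₁) (pr k X ⁻¹ᵁ W) = a • pullSec (pr k X) (sec s₁ W) := by
    rw [sec_genSec, Ega2.Weight.sec_pullHom, Ega2.Weight.sec_pullHom, hf, pullSec_smul, ha, add_smul]
  have hgl := genLocus_inf_eq (genSec k s₀ s₁) (hgen.pullSec (pr k X)) hsec
  have haff' : IsAffineOpen (pr k X ⁻¹ᵁ W) := haff.preimage (pr k X)
  have hne : Nonempty W := ⟨⟨_, hη⟩⟩
  have hdom : IsDomain Γ(X, W) := inferInstance
  have hpush := isPushout_app k X haff
  have hP := GenPush.top_or_prime hpush f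
  have hP0 := GenPush.ne_zero hpush f
  have hat : (pr k X).app W f + ((Scheme.ΓSpecIso (CommRingCat.of (Gen k))).inv ≫
        (XG k X ↘ Spec (CommRingCat.of (Gen k))).appLE ⊤ (pr k X ⁻¹ᵁ W) le_top) (t k) = a := by
    rw [ha, ores_tt]
  rw [hat] at hP hP0
  have hmem : ∀ z : XG k X, ∀ hz : z ∈ pr k X ⁻¹ᵁ W, (z ∉ CohB1.genLocus _ (genSec k s₀ s₁) ↔
      a ∈ (haff'.primeIdealOf ⟨z, hz⟩).asIdeal) := by
    intro z hz
    have h1 : z ∈ CohB1.genLocus _ (genSec k s₀ s₁) ↔ z ∈ (XG k X).basicOpen a := by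
      rw [← hgl]
      exact ⟨fun h => ⟨h, hz⟩, fun h => h.1⟩
    rw [h1]
    have h2 := haff'.fromSpec_preimage_basicOpen a
    have h3 : z ∈ (XG k X).basicOpen a ↔ haff'.primeIdealOf ⟨z, hz⟩ ∈ haff'.fromSpec ⁻¹ᵁ (XG k X).basicOpen a := by
      have h4 : haff'.fromSpec (haff'.primeIdealOf ⟨z, hz⟩) = z := haff'.fromSpec_primeIdealOf ⟨z, hz⟩
      conv_lhs => rw [← h4]
      rfl
    rw [h3, h2]
    exact not_not
  constructor
  · have himg : {z : XG k X | z ∈ pr k X ⁻¹ᵁ W ∧ z ∉ CohB1.genLocus _ (genSec k s₀ s₁)} =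
        haff'.fromSpec '' (PrimeSpectrum.zeroLocus {a}) := by
      ext z
      constructor
      · rintro ⟨hz, hz'⟩
        exact ⟨haff'.primeIdealOf ⟨z, hz⟩, Set.singleton_subset_iff.mpr ((hmem z hz).mp hz'),
          haff'.fromSpec_primeIdealOf ⟨z, hz⟩⟩
      · rintro ⟨q, hq, rfl⟩
        have hz : haff'.fromSpec q ∈ pr k X ⁻¹ᵁ W := by
          have : haff'.fromSpec q ∈ Set.range haff'.fromSpec := ⟨q, rfl⟩
          rwa [haff'.range_fromSpec] at this
        refine ⟨hz, ?_⟩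
        rw [hmem _ hz]
        have h5 : haff'.primeIdealOf ⟨haff'.fromSpec q, hz⟩ = q := by
          apply haff'.fromSpec.isOpenEmbedding.injective
          exact haff'.fromSpec_primeIdealOf ⟨_, hz⟩
        rw [h5]
        exact Set.singleton_subset_iff.mp hq
    rw [himg]
    refine IsPreirreducible.image ?_ _ haff'.fromSpec.continuous.continuousOn
    rw [← PrimeSpectrum.zeroLocus_span]
    rcases hP with h | h
    · rw [h]
      have : PrimeSpectrum.zeroLocus ((⊤ : Ideal Γ(XG k X, pr k X ⁻¹ᵁ W)) : Set Γ(XG k X, pr k X ⁻¹ᵁ W)) = ∅ := by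
        rw [PrimeSpectrum.zeroLocus_empty_iff_eq_top]
      rw [this]
      exact isPreirreducible_empty
    · exact ((PrimeSpectrum.isIrreducible_zeroLocus_iff_of_radical _ h.isRadical).mpr h).isPreirreducible
  · by_contra hcon
    push Not at hcon
    apply hP0
    have hneW : Nonempty (pr k X ⁻¹ᵁ W) := by
      obtain ⟨z, hz⟩ := (pr k X).surjective (genericPoint X)
      exact ⟨⟨z, by change pr k X z ∈ W; rw [hz]; exact hη⟩⟩
    have h6 : (XG k X).basicOpen a = ⊥ := by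
      rw [← hgl, eq_bot_iff]
      intro z hz
      exact (hcon z hz.1).elim
    exact (basicOpen_eq_bot_iff a).mp h6

end Groth.Agent.Pic13.H956.GenSec
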