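import Groth.Agent.Fga.PosMain
import Groth.Agent.Fga.MultFinal
import Groth.Agent.CohqB.PullTwist471
import Groth.Agent.Picfga.ChiBC
import Groth.Agent.Fga.HodgeSec
import Groth.Agent.Ega2.FiniteSet

/-!
# Intersection numbers: change of the cohomological cutoff, of the base field, and restriction to a divisor
-/

set_option autoImplicit false
universe u
open CategoryTheory CategoryTheory.Limits AlgebraicGeometry Opposite TopologicalSpace

namespace Groth.Agent.Pic13.H956.Numbers

open Groth.Agent.Fga Groth.Agent.Fga.PicMon Groth.Agent.Fga.RegSec Groth.Agent.Fga.IntAdd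

section Unit

open Groth.Agent.Fdesc.LocGen

theorem mem_support_unit {X : Scheme.{u}} (x : X) : x ∈ CohB1.support (Coh.structureModule X) := by
  intro hsub
  have h1 : (Coh.structureModule X).presheaf.germ ⊤ x (Opens.mem_top _) (one ⊤) = 0 := Subsingleton.elim _ _
  obtain ⟨V, hVU, hxV, hV⟩ := RegSec.exists_res_eq_zero (Coh.structureModule X) (Opens.mem_top _) _ h1
  have h2 : one (X := X) V = 0 := by
    rw [← res_one hVU]
    exact hV
  have h5 : (1 : Γ(X, V)) = 0 := by
    apply (isGen_one V).ext
    rw [h2, smul_zero, smul_zero]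
  have : Nonempty V := ⟨⟨x, hxV⟩⟩
  exact one_ne_zero h5

theorem support_unit (X : Scheme.{u}) : CohB1.support (Coh.structureModule X) = Set.univ :=
  Set.eq_univ_of_forall mem_support_unit

end Unit

section Cutoff

variable (k : Type u) [Field k] (X : Scheme.{u}) [X.Over (Spec (CommRingCat.of k))]
  [IsProper (X ↘ Spec (CommRingCat.of k))]

/-- The intersection symbol does not depend on the cohomological cutoff `d ≥ dim X`. -/
theorem intNum_cutoff (d d' : ℕ) (hd : topologicalKrullDim X ≤ d) (hd' : topologicalKrullDim X ≤ d') {r : ℕ}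
    (M : Fin r → X.Modules) (F : X.Modules) : FGA.intNum k X d M F = FGA.intNum k X d' M F := by
  simp only [FGA.intNum, IntAdd.eulerCharLE_eq k X d hd, IntAdd.eulerCharLE_eq k X d' hd']

end Cutoff

section Ext

/-- The intersection symbol is invariant under extension of the base field. -/
theorem intNum_pullback (k : Type u) [Field k] (X : Scheme.{u}) [X.Over (Spec (CommRingCat.of k))]
    [CompactSpace X] [QuasiSeparatedSpace X] [IsLocallyNoetherian X]
    (k' : Type u) [Field k'] (X' : Scheme.{u}) [X'.Over (Spec (CommRingCat.of k'))]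
    (g : X' ⟶ X) (s : Spec (CommRingCat.of k') ⟶ Spec (CommRingCat.of k))
    (hpb : IsPullback g (X' ↘ Spec (CommRingCat.of k')) (X ↘ Spec (CommRingCat.of k)) s)
    (d : ℕ) {r : ℕ} (M : Fin r → X.Modules) (hM : ∀ i, PicF.IsInvertible (M i))
    (F : X.Modules) (hF : Coh.IsCoh F) :
    FGA.intNum k' X' d (fun i => (Scheme.Modules.pullback g).obj (M i)) ((Scheme.Modules.pullback g).obj F) =
      FGA.intNum k X d M F := by
  induction r generalizing F with
  | zero =>
    rw [PicMon.intNum_zero, PicMon.intNum_zero]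
    exact Picfga.ChiBC.eulerCharLE_pullback k X k' X' g s hpb F hF.1 d
  | succ r ih =>
    have key : ∀ (K : Type u) [Field K] {Y : Scheme.{u}} [Y.Over (Spec (CommRingCat.of K))]
        (N : Fin (r + 1) → Y.Modules) (F : Y.Modules),
        FGA.intNum K Y d N F = FGA.intNum K Y d (fun j => N j.succ) F -
          FGA.intNum K Y d (fun j => N j.succ) (CohB1.tensorMod (N 0) F) := by
      intro K _ Y _ N F
      have h1 : N = (Fin.cons (N 0) (fun j => N j.succ) : Fin (r + 1) → Y.Modules) := (Fin.cons_self_tail N).symm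
      rw [← intNum_cons, ← h1]
    have e1 := key k M F
    have e2 := key k' (fun j => (Scheme.Modules.pullback g).obj (M j)) ((Scheme.Modules.pullback g).obj F)
    have e3 := ih (fun j => M j.succ) (fun j => hM j.succ) F hF
    have e4 := ih (fun j => M j.succ) (fun j => hM j.succ) (CohB1.tensorMod (M 0) F)
      (Sga67.CohBasic.isCoh_of_iso (Ega2.Tens.swap F _) (TwistCoh.isCoh_tensor hF (hM 0)))
    have e5 := intNum_iso k' X' d (fun j => (Scheme.Modules.pullback g).obj (M j.succ))
      (CohqB.PullTwist471.pullTensorIsoLeft g (CohqB.PullTwist471.hasBases_of_isInvertible (hM 0)) F)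
    rw [e2, e1, e3, ← e5, e4]

end Ext

section Cut

variable (k : Type u) [Field k] (X : Scheme.{u}) [X.Over (Spec (CommRingCat.of k))]
  [IsProper (X ↘ Spec (CommRingCat.of k))] (d : ℕ) (hd : topologicalKrullDim X ≤ d)

include hd in
/-- Restriction to the zero scheme of an `F`-regular section of `N = P⁻¹`. -/
theorem intNum_cut {N P : X.Modules} (hN : PicF.IsInvertible N) (hP : PicF.IsInvertible P)
    (hPN : mc P * mc N = 1) (s : Coh.structureModule X ⟶ N) (F : X.Modules) (hF : Coh.IsCoh F)
    (hmono : Mono (mulS s F)) {r : ℕ} (M : Fin r → X.Modules) (hM : ∀ i, PicF.IsInvertible (M i)) :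
    Coh.IsCoh (CohB1.tensorMod P (cokernel (mulS s F))) ∧
    FGA.intNum k X d (Fin.cons P M : Fin (r + 1) → X.Modules) F =
      FGA.intNum k X d M (CohB1.tensorMod P (cokernel (mulS s F))) := by
  have := IntAdd.isNoetherian k X
  have hNF : Coh.IsCoh (CohB1.tensorMod N F) :=
    Sga67.CohBasic.isCoh_of_iso (Ega2.Tens.swap F _) (TwistCoh.isCoh_tensor hF hN)
  have hC : Coh.IsCoh (cokernel (mulS s F)) := Sga67.CohBasic.isCoh_cokernel _ hF.1 hNF
  have hS : (ShortComplex.mk (mulS s F) (cokernel.π (mulS s F)) (cokernel.condition _)).ShortExact :=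
    { exact := ShortComplex.exact_cokernel _
      mono_f := hmono
      epi_g := inferInstanceAs (Epi (cokernel.π (mulS s F))) }
  have hadd := isAdd_tensor X (isAdd_intNum k X d hd M hM) hP _ hS hF hNF hC
  have hiso : FGA.intNum k X d M (CohB1.tensorMod P (CohB1.tensorMod N F)) =
      FGA.intNum k X d M F := by
    obtain ⟨e⟩ := (mc_eq_iff (CohB1.tensorMod P (CohB1.tensorMod N F)) F).mp (by
      rw [mc_tensor, mc_tensor, ← mul_assoc, hPN, one_mul])
    exact intNum_iso k X d _ e
  refine ⟨Sga67.CohBasic.isCoh_of_iso (Ega2.Tens.swap _ _) (TwistCoh.isCoh_tensor hC hP), ?_⟩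
  rw [intNum_cons k X d P M F]
  simp only at hadd
  rw [hiso] at hadd
  rw [hadd]
  ring

include hd in
/-- **Restriction to an irreducible divisor.** `X` integral, `s` a section of `N = P⁻¹` generating at the generic point,
`j : D ⟶ X` the integral closed subscheme whose support is the zero locus of `s`: intersection numbers with `N` on `X`
are a fixed positive multiple of those on `D`. -/
theorem exists_mul_intNum [IsIntegral X] {N P : X.Modules} (hN : PicF.IsInvertible N) (hP : PicF.IsInvertible P)
    (hPN : mc P * mc N = 1) (s : Coh.structureModule X ⟶ N) (hη : genericPoint X ∈ CohB1.genLocus N s)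
    {D : Scheme.{u}} [D.Over (Spec (CommRingCat.of k))] (j : D ⟶ X) [IsClosedImmersion j] [IsIntegral D]
    (hj : j ≫ (X ↘ Spec (CommRingCat.of k)) = D ↘ Spec (CommRingCat.of k))
    (hrange : Set.range j = (CohB1.genLocus N s : Set X)ᶜ) (r : ℕ) (hD : topologicalKrullDim D ≤ r) :
    ∃ c : ℕ, 0 < c ∧ ∀ M : Fin r → X.Modules, (∀ i, PicF.IsInvertible (M i)) →
      FGA.intNum k X d (Fin.cons P M : Fin (r + 1) → X.Modules) (Coh.structureModule X) =
        c * FGA.intNum k D d (fun i => (Scheme.Modules.pullback j).obj (M i)) (Coh.structureModule D) := by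
  have := IntAdd.isNoetherian k X
  have hO : Coh.IsCoh (Coh.structureModule X) := CurvesC.UnitCoh.isCoh_unit X
  have hNO : Coh.IsCoh (CohB1.tensorMod N (Coh.structureModule X)) :=
    Sga67.CohBasic.isCoh_of_iso (Ega2.Tens.swap _ _) (TwistCoh.isCoh_tensor hO hN)
  have hs : s ≠ 0 := by
    rintro rfl
    rw [Ega2.FiniteSet.genLocus_zero] at hη
    exact hη
  have hmono : Mono (mulS s (Coh.structureModule X)) :=
    HodgeSec.mono_mulS hN Fdesc.LocGen.isInvertible_structureModule s hs
  set G := CohB1.tensorMod P (cokernel (mulS s (Coh.structureModule X))) with hG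
  have hcoh : Coh.IsCoh G := (intNum_cut k X d hd hN hP hPN s _ hO hmono (r := 0) Fin.elim0 (fun i => i.elim0)).1
  have hsupp : CohB1.support G = Set.range j := by
    rw [hG, PosMain.support_tensor X hP hN hPN, support_cokernel_mulS s _ hN hO.2, hrange,
      support_unit, Set.compl_eq_univ_sdiff]
  set y := j (genericPoint D) with hy
  have key := fun (M : Fin r → X.Modules) (hM : ∀ i, PicF.IsInvertible (M i)) =>
    MultFinal.intNum_eq k X d hd j hj M hM hD G hcoh hsupp.le
  have h2 := (key (fun _ => Coh.structureModule X) (fun _ => Fdesc.LocGen.isInvertible_structureModule)).1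
  refine ⟨(Module.length (X.presheaf.stalk y) (G.presheaf.stalk y)).toNat, ?_, fun M hM => ?_⟩
  · have h5 := MultForm.len_pos (F := G) (y := y) (by rw [hsupp]; exact ⟨_, rfl⟩)
    exact Nat.pos_of_ne_zero fun h => by
      rcases ENat.toNat_eq_zero.mp h with h | h
      · exact h5 h
      · exact h2 h
  · rw [(intNum_cut k X d hd hN hP hPN s _ hO hmono M hM).2]
    exact (key M hM).2

end Cut

end Groth.Agent.Pic13.H956.Numbers
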