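import Groth.Agent.Pic13.H956.GenMem
import Groth.Agent.Pic13.H956.Numbers
import Groth.Agent.CohqB.AmpGeneric
import Groth.Agent.Fga.HodgeAsm
import Groth.Agent.Fga.HodgeCurve612
import Groth.Agent.FormalA.PullbackQC
import Groth.Agent.Ega1.SuppTensorMod

/-!
# The Hodge index theorem in dimension `r ≥ 2`, over an arbitrary field

`HI n`: on an integral proper scheme `X` of dimension `n + 2` over any field, with an ample module `H`, an invertible
module `L` with `(L·H^(n+1)) = 0` and `(L²·H^n) ≥ 0` has degree `0` on every integral curve.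

Induction on `n`.  Given a curve `Y` choose two sections `s₀, s₁` of a power of `H` vanishing on `Y` whose common zero
locus has codimension `≥ 2`; the zero locus of `s₀ + t s₁` on `X ×_K K(t)` is irreducible of dimension `n + 1`.
-/

set_option autoImplicit false
universe u
open CategoryTheory CategoryTheory.Limits AlgebraicGeometry Opposite TopologicalSpace

namespace Groth.Agent.Pic13.H956.Main

open Groth.Agent.Fga Groth.Agent.Fga.PicMon Groth.Agent.Fga.RegSec Groth.Agent.Fga.IntAdd
open Groth.Agent.Pic13.H956.GenAlg Groth.Agent.Pic13.H956.GenExt Groth.Agent.Pic13.H956.GenSec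

/-- The Hodge index theorem in dimension `n + 2` for integral schemes over arbitrary fields. -/
def HI (n : ℕ) : Prop :=
  ∀ (k : Type u) [Field k] (X : Scheme.{u}) [X.Over (Spec (CommRingCat.of k))]
    [IsProper (X ↘ Spec (CommRingCat.of k))] [IsIntegral X] (_ : topologicalKrullDim X = ((n + 2 : ℕ) : WithBot ℕ∞))
    (H H' L L' : X.Modules) (_ : CohB1.IsAmple H) (_ : PicF.IsInvertible L)
    (_ : Nonempty (CohB1.tensorMod H H' ≅ Coh.structureModule X))
    (_ : Nonempty (CohB1.tensorMod L L' ≅ Coh.structureModule X))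
    (_ : FGA.intNum k X (n + 2) (Fin.cons L' (fun _ => H') : Fin (n + 2) → X.Modules) (Coh.structureModule X) = 0)
    (_ : 0 ≤ FGA.intNum k X (n + 2)
      (Fin.cons L' (Fin.cons L' (fun _ => H') : Fin (n + 1) → X.Modules) : Fin (n + 2) → X.Modules)
      (Coh.structureModule X))
    (Y : Scheme.{u}) (ι : Y ⟶ X) [IsClosedImmersion ι] [IsIntegral Y] (_ : topologicalKrullDim Y = 1),
      FGA.intNum k X (n + 2) ![L'] ((Coh.push ι).obj (Coh.structureModule Y)) = 0

theorem cons_const {α : Type*} (a : α) (n : ℕ) :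
    (Fin.cons a (fun _ => a) : Fin (n + 1) → α) = fun _ => a := by
  funext i
  cases i using Fin.cases <;> rfl

section
variable (k : Type u) [Field k] (X : Scheme.{u}) [X.Over (Spec (CommRingCat.of k))] (d : ℕ)

/-- Exchange of the first two entries. -/
theorem intNum_swap {r : ℕ} (A B : X.Modules) (M : Fin r → X.Modules) (F : X.Modules) :
    FGA.intNum k X d (Fin.cons A (Fin.cons B M : Fin (r + 1) → X.Modules) : Fin (r + 2) → X.Modules) F =
      FGA.intNum k X d (Fin.cons B (Fin.cons A M : Fin (r + 1) → X.Modules) : Fin (r + 2) → X.Modules) F := by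
  rw [intNum_cons, intNum_cons, intNum_cons, intNum_cons k X d B, intNum_cons, intNum_cons]
  have h : FGA.intNum k X d M (CohB1.tensorMod B (CohB1.tensorMod A F)) =
      FGA.intNum k X d M (CohB1.tensorMod A (CohB1.tensorMod B F)) := by
    obtain ⟨e⟩ := (mc_eq_iff (CohB1.tensorMod B (CohB1.tensorMod A F)) (CohB1.tensorMod A (CohB1.tensorMod B F))).mp (by
      rw [mc_tensor, mc_tensor, mc_tensor, mc_tensor, ← mul_assoc, ← mul_assoc, mul_comm (mc A)])
    exact intNum_iso k X d _ e
  rw [h]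
  ring

theorem intNum_cons_congr {r : ℕ} (A : X.Modules) (M N : Fin r → X.Modules)
    (h : ∀ F, FGA.intNum k X d M F = FGA.intNum k X d N F) (F : X.Modules) :
    FGA.intNum k X d (Fin.cons A M : Fin (r + 1) → X.Modules) F =
      FGA.intNum k X d (Fin.cons A N : Fin (r + 1) → X.Modules) F := by
  rw [intNum_cons, intNum_cons, h, h]

theorem intNum_rot_two {n : ℕ} (L H : X.Modules) (F : X.Modules) :
    FGA.intNum k X d (Fin.cons H (Fin.cons L (fun _ => H) : Fin (n + 1) → X.Modules) : Fin (n + 2) → X.Modules) F =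
      FGA.intNum k X d (Fin.cons L (fun _ => H) : Fin (n + 2) → X.Modules) F := by
  rw [intNum_swap, cons_const]

theorem intNum_rot_three {n : ℕ} (L H : X.Modules) (F : X.Modules) :
    FGA.intNum k X d (Fin.cons H (Fin.cons L (Fin.cons L (fun _ => H) : Fin (n + 1) → X.Modules) :
      Fin (n + 2) → X.Modules) : Fin (n + 3) → X.Modules) F =
      FGA.intNum k X d (Fin.cons L (Fin.cons L (fun _ => H) : Fin (n + 2) → X.Modules) : Fin (n + 3) → X.Modules) F := by
  rw [intNum_swap]
  exact intNum_cons_congr k X d L _ _ (fun F => intNum_rot_two k X d L H F) F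

end

theorem pull_inv {X Z : Scheme.{u}} (g : Z ⟶ X) {P Q : X.Modules} (hP : PicF.IsInvertible P)
    (hQ : PicF.IsInvertible Q) (e : Nonempty (CohB1.tensorMod P Q ≅ Coh.structureModule X)) :
    Nonempty (CohB1.tensorMod ((Scheme.Modules.pullback g).obj P) ((Scheme.Modules.pullback g).obj Q) ≅
        Coh.structureModule Z) := by
  obtain ⟨e⟩ := e
  obtain ⟨e1⟩ := Ega3B.PullTensor.nonempty_pullUnitIso g
  exact ⟨(Ega3B.PullTensor.pullTensorIso g hP hQ).symm ≪≫ (Scheme.Modules.pullback g).mapIso e ≪≫ e1⟩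

theorem hi_zero : HI.{u} 0 := by
  intro k _ X _ _ _ hdim H H' L L' hH hL hHH' hLL' horth hsq Y ι _ _ hY
  have hdim' : topologicalKrullDim X = 2 := by rw [hdim]; rfl
  have h1 : (Fin.cons L' (fun _ => H') : Fin (0 + 2) → X.Modules) = ![L', H'] := by
    funext i
    fin_cases i <;> rfl
  have h2 : (Fin.cons L' (Fin.cons L' (fun _ => H') : Fin (0 + 1) → X.Modules) : Fin (0 + 2) → X.Modules) =
      ![L', L'] := by
    funext i
    fin_cases i <;> rfl
  rw [h1] at horth
  rw [h2] at hsq
  have hpos : 0 < FGA.intNum k X 2 ![H', H'] (Coh.structureModule X) := by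
    refine PosMain.intNum_pos k X 2 hdim.le ![H, H] ![H', H'] (fun i => by fin_cases i <;> exact hH)
      (fun i => by fin_cases i <;> exact hHH') _ (CurvesC.UnitCoh.isCoh_unit X) ?_
    rw [Numbers.support_unit]
    exact ((Homeomorph.Set.univ X).isHomeomorph.topologicalKrullDim_eq).trans hdim
  refine Fga.HodgeAsm.main k ?_ X hdim' H H' L L' hH.1 hL hHH' hLL' hpos horth hsq Y ι hY
  intro Z _ _ _ hZ M M' N N' hM hM' hN hN' hMM' hNN' s hs hp ho hn Y ι _ _ hY
  exact Fga.HodgeCurve612.curve_zero k hZ M M' N N' hM hMM' hNN' s hs hp ho hn ι (by rw [hY]; rfl)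

/-- The numerical comparison between `X` and the generic member. -/
theorem numbers (k : Type u) [Field k] (X : Scheme.{u}) [X.Over (Spec (CommRingCat.of k))]
    [IsProper (X ↘ Spec (CommRingCat.of k))] [IsIntegral X] (r : ℕ) (hdim : topologicalKrullDim X = ((r + 1 : ℕ) : WithBot ℕ∞))
    (H H' : X.Modules) (hH : PicF.IsInvertible H) (hHH' : Nonempty (CohB1.tensorMod H H' ≅ Coh.structureModule X)) (m : ℕ)
    (s : Coh.structureModule (XG k X) ⟶ (Scheme.Modules.pullback (pr k X)).obj (CohB1.tensorPow H (m + 1)))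
    (hη : genericPoint (XG k X) ∈ CohB1.genLocus _ s)
    {D : Scheme.{u}} [D.Over (Spec (CommRingCat.of (Gen k)))] (j : D ⟶ XG k X) [IsClosedImmersion j] [IsIntegral D]
    (hj : j ≫ (XG k X ↘ Spec (CommRingCat.of (Gen k))) = D ↘ Spec (CommRingCat.of (Gen k)))
    (hrange : Set.range j = (CohB1.genLocus _ s : Set (XG k X))ᶜ) (hD : topologicalKrullDim D ≤ r) :
    ∃ c : ℕ, 0 < c ∧ ∀ M : Fin r → X.Modules, (∀ i, PicF.IsInvertible (M i)) →
      ((m + 1 : ℕ) : ℤ) * FGA.intNum k X (r + 1) (Fin.cons H' M : Fin (r + 1) → X.Modules) (Coh.structureModule X) =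
        c * FGA.intNum (Gen k) D r (fun i => (Scheme.Modules.pullback (j ≫ pr k X)).obj (M i)) (Coh.structureModule D) := by
  have := HypSec.isNoetherian k X
  have hH' : PicF.IsInvertible H' := isInvertible_of_tensor hHH'.some
  have hN := Fdesc.LocGen.isInvertible_tensorPow hH (m + 1)
  have hP := Fdesc.LocGen.isInvertible_tensorPow hH' (m + 1)
  have hPN : mc (CohB1.tensorPow H' (m + 1)) * mc (CohB1.tensorPow H (m + 1)) = 1 := by
    rw [mc_tensorPow, mc_tensorPow, ← mul_pow, mul_comm (mc H'), ← mc_tensor, mc_eq hHH'.some, mc_one, one_pow]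
  have hPN' : mc ((Scheme.Modules.pullback (pr k X)).obj (CohB1.tensorPow H' (m + 1))) *
      mc ((Scheme.Modules.pullback (pr k X)).obj (CohB1.tensorPow H (m + 1))) = 1 := by
    rw [← mc_tensor, ← mc_one, mc_eq_iff]
    exact pull_inv (pr k X) hP hN ((mc_eq_iff _ _).mp (by rw [mc_tensor, hPN, mc_one]))
  have hdimG : topologicalKrullDim (XG k X) ≤ ((r + 1 : ℕ) : WithBot ℕ∞) := by rw [dim_XG k X, hdim]
  obtain ⟨c, hc, h⟩ := Numbers.exists_mul_intNum (Gen k) (XG k X) (r + 1) hdimG
    (Fdesc.LocGen.isInvertible_pullback _ hN) (Fdesc.LocGen.isInvertible_pullback _ hP) hPN' s hη j hj hrange r hD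
  refine ⟨c, hc, fun M hM => ?_⟩
  have hDp : IsProper (D ↘ Spec (CommRingCat.of (Gen k))) := by rw [← hj]; infer_instance
  have h1 := h (fun i => (Scheme.Modules.pullback (pr k X)).obj (M i))
    (fun i => Fdesc.LocGen.isInvertible_pullback _ (hM i))
  have hcons : (Fin.cons ((Scheme.Modules.pullback (pr k X)).obj (CohB1.tensorPow H' (m + 1)))
      (fun i => (Scheme.Modules.pullback (pr k X)).obj (M i)) : Fin (r + 1) → (XG k X).Modules) =
      fun i => (Scheme.Modules.pullback (pr k X)).obj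
        ((Fin.cons (CohB1.tensorPow H' (m + 1)) M : Fin (r + 1) → X.Modules) i) := by
    funext i
    cases i using Fin.cases <;> rfl
  obtain ⟨eu⟩ := Ega3B.PullTensor.nonempty_pullUnitIso (pr k X)
  have hinv : ∀ i, PicF.IsInvertible ((Fin.cons (CohB1.tensorPow H' (m + 1)) M : Fin (r + 1) → X.Modules) i) := by
    intro i
    cases i using Fin.cases with
    | zero => exact hP
    | succ i => exact hM i
  rw [hcons, ← intNum_iso (Gen k) (XG k X) (r + 1) _ eu,
    Numbers.intNum_pullback k X (Gen k) (XG k X) (pr k X) (σ k) (isPullback k X) (r + 1) _ hinv _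
      (CurvesC.UnitCoh.isCoh_unit X),
    PosMain.intNum_cons_tensorPow k X (r + 1) hdim.le H' hH' M hM _ (CurvesC.UnitCoh.isCoh_unit X) (by
      rw [Numbers.support_unit, (Homeomorph.Set.univ X).isHomeomorph.topologicalKrullDim_eq, hdim]
      exact_mod_cast Nat.lt_succ_self (r + 1))] at h1
  rw [h1, Numbers.intNum_cutoff (Gen k) D (r + 1) r (hD.trans (by exact_mod_cast Nat.le_succ r)) hD]
  congr 1
  exact intNum_congr (Gen k) D r _ _ (fun i => ⟨(Scheme.Modules.pullbackComp j (pr k X)).app (M i)⟩) _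

/-- The degree on a curve in `X` from the degree on a curve in the generic member. -/
theorem curve_zero (k : Type u) [Field k] (X : Scheme.{u}) [X.Over (Spec (CommRingCat.of k))]
    [IsProper (X ↘ Spec (CommRingCat.of k))] (r : ℕ) (hdim : topologicalKrullDim X ≤ ((r + 1 : ℕ) : WithBot ℕ∞))
    (hr : 1 ≤ r) (L' : X.Modules) (hL' : PicF.IsInvertible L')
    {D : Scheme.{u}} [D.Over (Spec (CommRingCat.of (Gen k)))] (j : D ⟶ XG k X) [IsClosedImmersion j]
    (hj : j ≫ (XG k X ↘ Spec (CommRingCat.of (Gen k))) = D ↘ Spec (CommRingCat.of (Gen k)))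
    (Y : Scheme.{u}) (ι : Y ⟶ X) [IsClosedImmersion ι]
    (Y' : Scheme.{u}) (ι' : Y' ⟶ D) [IsClosedImmersion ι'] [IsIntegral Y'] (hY' : topologicalKrullDim Y' ≤ ((1 : ℕ) : WithBot ℕ∞))
    (hrange : pr k X ⁻¹' Set.range ι ⊆ Set.range (ι' ≫ j))
    (h : FGA.intNum (Gen k) D r ![(Scheme.Modules.pullback (j ≫ pr k X)).obj L']
      ((Coh.push ι').obj (Coh.structureModule Y')) = 0) :
    FGA.intNum k X (r + 1) ![L'] ((Coh.push ι).obj (Coh.structureModule Y)) = 0 := by
  have := HypSec.isNoetherian k X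
  have : IsLocallyNoetherian Y := by
    have : LocallyOfFiniteType (ι ≫ (X ↘ Spec (CommRingCat.of k))) := inferInstance
    exact LocallyOfFiniteType.isLocallyNoetherian (ι ≫ (X ↘ Spec (CommRingCat.of k)))
  let _ : Y'.Over (Spec (CommRingCat.of (Gen k))) := ⟨ι' ≫ (D ↘ Spec (CommRingCat.of (Gen k)))⟩
  have hDp : IsProper (D ↘ Spec (CommRingCat.of (Gen k))) := by rw [← hj]; infer_instance
  have hY't : ι' ≫ (D ↘ Spec (CommRingCat.of (Gen k))) = Y' ↘ Spec (CommRingCat.of (Gen k)) := rfl
  have hY'p : IsProper (Y' ↘ Spec (CommRingCat.of (Gen k))) := by rw [← hY't]; infer_instance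
  have hcoh : Coh.IsCoh ((Coh.push ι).obj (Coh.structureModule Y)) := CycB.ClosSheaf.isCoh_push_structureModule ι
  have hM : ∀ i, PicF.IsInvertible ((![L'] : Fin 1 → X.Modules) i) := fun i => by fin_cases i; exact hL'
  have hM' : ∀ i, PicF.IsInvertible ((![(Scheme.Modules.pullback (pr k X)).obj L'] : Fin 1 → (XG k X).Modules) i) :=
    fun i => by fin_cases i; exact Fdesc.LocGen.isInvertible_pullback _ hL'
  rw [← Numbers.intNum_pullback k X (Gen k) (XG k X) (pr k X) (σ k) (isPullback k X) (r + 1) _ hM _ hcoh]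
  have hpull : (fun i => (Scheme.Modules.pullback (pr k X)).obj ((![L'] : Fin 1 → X.Modules) i)) =
      ![(Scheme.Modules.pullback (pr k X)).obj L'] := by
    funext i
    fin_cases i
    rfl
  rw [hpull]
  have hdimG : topologicalKrullDim (XG k X) ≤ ((r + 1 : ℕ) : WithBot ℕ∞) := by rw [dim_XG k X]; exact hdim
  have hcoh' : Coh.IsCoh ((Scheme.Modules.pullback (pr k X)).obj ((Coh.push ι).obj (Coh.structureModule Y))) :=
    FormalA.PullbackQC.isCoh_pullback _ _ hcoh
  have hsupp : CohB1.support ((Scheme.Modules.pullback (pr k X)).obj ((Coh.push ι).obj (Coh.structureModule Y))) ⊆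
      Set.range (ι' ≫ j) := by
    intro z hz
    apply hrange
    rw [Ega1.SuppTensorMod.mem_support_pullback _ _ hcoh.2] at hz
    exact CohqB.DevSimple.support_push_subset_range ι _ hz
  have hit : (ι' ≫ j) ≫ (XG k X ↘ Spec (CommRingCat.of (Gen k))) = Y' ↘ Spec (CommRingCat.of (Gen k)) := by
    rw [Category.assoc, hj]
    rfl
  rw [(MultFinal.intNum_eq (Gen k) (XG k X) (r + 1) hdimG (ι' ≫ j) hit _ hM' hY' _ hcoh' hsupp).2]
  have hMD : ∀ i, PicF.IsInvertible ((![(Scheme.Modules.pullback (j ≫ pr k X)).obj L'] : Fin 1 → D.Modules) i) :=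
    fun i => by fin_cases i; exact Fdesc.LocGen.isInvertible_pullback _ hL'
  rw [MultInt.intNum_push (Gen k) ι' hY't r _ hMD] at h
  have hY1 : topologicalKrullDim Y' ≤ ((r : ℕ) : WithBot ℕ∞) := hY'.trans (by exact_mod_cast hr)
  have hY2 : topologicalKrullDim Y' ≤ ((r + 1 : ℕ) : WithBot ℕ∞) := hY1.trans (by exact_mod_cast Nat.le_succ r)
  rw [Numbers.intNum_cutoff (Gen k) Y' (r + 1) r hY2 hY1]
  have hcongr : FGA.intNum (Gen k) Y' r (fun i => (Scheme.Modules.pullback (ι' ≫ j)).obj
      ((![(Scheme.Modules.pullback (pr k X)).obj L'] : Fin 1 → (XG k X).Modules) i)) (Coh.structureModule Y') =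
      FGA.intNum (Gen k) Y' r (fun i => (Scheme.Modules.pullback ι').obj
      ((![(Scheme.Modules.pullback (j ≫ pr k X)).obj L'] : Fin 1 → D.Modules) i)) (Coh.structureModule Y') := by
    refine intNum_congr (Gen k) Y' r _ _ (fun i => ?_) _
    fin_cases i
    exact ⟨(Scheme.Modules.pullbackComp (ι' ≫ j) (pr k X)).app L' ≪≫
      (Scheme.Modules.pullbackCongr (Category.assoc ι' j (pr k X))).app L' ≪≫
      ((Scheme.Modules.pullbackComp ι' (j ≫ pr k X)).app L').symm⟩
  rw [hcongr, h, mul_zero]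

theorem hi_succ (n : ℕ) (ih : HI.{u} n) : HI.{u} (n + 1) := by
  intro k _ X _ _ _ hdim H H' L L' hH hL hHH' hLL' horth hsq Y ι _ _ hY
  have := HypSec.isNoetherian k X
  have hdim3 : topologicalKrullDim X = ((n + 3 : ℕ) : WithBot ℕ∞) := hdim
  have hH' : PicF.IsInvertible H' := isInvertible_of_tensor hHH'.some
  have hL' : PicF.IsInvertible L' := isInvertible_of_tensor hLL'.some
  obtain ⟨m, s₀, s₁, hη₀, hη₁, hY₀, hY₁, haff, hcod⟩ := TwoSec.exists_two k X hH n hdim3 ι (by rw [hY]; rfl)
  have hN := Fdesc.LocGen.isInvertible_tensorPow hH.1 (m + 1)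
  have hirr := GenMem.isIrreducible_zero k X hN s₀ s₁ haff hη₁ hcod (hY₀ (genericPoint Y)) (hY₁ (genericPoint Y))
  obtain ⟨-, z₁, hz₁⟩ := isPreirreducible_inter k hN s₀ s₁ haff hη₁
  have hηG : genericPoint (XG k X) ∈ CohB1.genLocus _ (genSec k s₀ s₁) :=
    ((genericPoint_spec (XG k X)).mem_open_set_iff (CohB1.genLocus _ (genSec k s₀ s₁)).isOpen).mpr
      ⟨z₁, trivial, hz₁⟩
  have hcl : IsClosed (CohB1.genLocus _ (genSec k s₀ s₁) : Set (XG k X))ᶜ :=
    (CohB1.genLocus _ (genSec k s₀ s₁)).isOpen.isClosed_compl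
  -- the divisor
  obtain ⟨v, hv⟩ := QuasiSober.sober hirr hcl
  obtain ⟨D, j, hjc, hDint, hgen, hrange⟩ := IntegralSub.exists_integral_closed v
  rw [hv.def] at hrange
  let _ : D.Over (Spec (CommRingCat.of (Gen k))) := ⟨j ≫ (XG k X ↘ Spec (CommRingCat.of (Gen k)))⟩
  have hj : j ≫ (XG k X ↘ Spec (CommRingCat.of (Gen k))) = D ↘ Spec (CommRingCat.of (Gen k)) := rfl
  have hDp : IsProper (D ↘ Spec (CommRingCat.of (Gen k))) := by rw [← hj]; infer_instance
  obtain ⟨z₀, hz₀⟩ := hirr.nonempty
  have hDdim : topologicalKrullDim D = ((n + 2 : ℕ) : WithBot ℕ∞) := by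
    rw [← TwoSec.dim_range j, hrange]
    exact GenMem.dim_zero (Gen k) (XG k X) (Fdesc.LocGen.isInvertible_pullback _ hN) _ hηG hz₀ (n + 2)
      (by rw [dim_XG k X, hdim3])
  -- the curve
  have hYirr : IsIrreducible (Set.range ι) := by
    rw [← Set.image_univ]
    exact (IrreducibleSpace.isIrreducible_univ Y).image _ ι.continuous.continuousOn
  have hWirr := isIrreducible_preimage k X hYirr
  have hWcl : IsClosed (pr k X ⁻¹' Set.range ι) := ι.isClosedEmbedding.isClosed_range.preimage (pr k X).continuous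
  obtain ⟨w, hw⟩ := QuasiSober.sober hWirr hWcl
  have hWV : pr k X ⁻¹' Set.range ι ⊆ Set.range j := by
    rw [hrange]
    rintro z ⟨y, hy⟩
    refine not_mem_of_not_mem k hN s₀ s₁ z ?_ ?_
    · change pr k X z ∉ CohB1.genLocus _ s₀
      rw [← hy]; exact hY₀ y
    · change pr k X z ∉ CohB1.genLocus _ s₁
      rw [← hy]; exact hY₁ y
  obtain ⟨δ, hδ⟩ := hWV hw.mem
  obtain ⟨Y', ι', hι', hY'int, hgen', hrange'⟩ := IntegralSub.exists_integral_closed δ
  have hrangeY : Set.range (ι' ≫ j) = pr k X ⁻¹' Set.range ι := by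
    have h1 : Set.range (ι' ≫ j) = j '' Set.range ι' := by
      rw [Scheme.Hom.comp_base, TopCat.coe_comp, Set.range_comp]
    rw [h1, hrange', ← j.isClosedEmbedding.closure_image_eq, Set.image_singleton, hδ]
    exact hw.def
  have hY'dim : topologicalKrullDim Y' = 1 := by
    rw [← TwoSec.dim_range (ι' ≫ j), hrangeY, dim_preimage k X ι, hY]
  -- numbers
  obtain ⟨c, hc, hnum⟩ := numbers k X (n + 2) hdim3 H H' hH.1 hHH' m (genSec k s₀ s₁) hηG j hj hrange hDdim.le
  set g := j ≫ pr k X with hg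
  refine curve_zero k X (n + 2) hdim3.le (by omega) L' hL' j hj Y ι Y' ι' (by rw [hY'dim]; rfl) hrangeY.ge ?_
  have horthD : FGA.intNum (Gen k) D (n + 2) (Fin.cons ((Scheme.Modules.pullback g).obj L')
      (fun _ => (Scheme.Modules.pullback g).obj H') : Fin (n + 2) → D.Modules) (Coh.structureModule D) = 0 := by
    have h1 := hnum (Fin.cons L' (fun _ => H') : Fin (n + 2) → X.Modules) (fun i => by
      cases i using Fin.cases
      · exact hL'
      · exact hH')
    rw [intNum_rot_two] at h1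
    have h2 : (fun i => (Scheme.Modules.pullback g).obj ((Fin.cons L' (fun _ => H') : Fin (n + 2) → X.Modules) i)) =
        (Fin.cons ((Scheme.Modules.pullback g).obj L') (fun _ => (Scheme.Modules.pullback g).obj H') :
          Fin (n + 2) → D.Modules) := by
      funext i
      cases i using Fin.cases <;> rfl
    rw [h2] at h1
    have h3 : FGA.intNum k X (n + 2 + 1) (Fin.cons L' (fun _ => H') : Fin (n + 3) → X.Modules) (Coh.structureModule X) = 0 :=
      horth
    rw [h3, mul_zero] at h1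
    rcases mul_eq_zero.mp h1.symm with h | h
    · exact absurd h (by exact_mod_cast hc.ne')
    · exact h
  have hsqD : 0 ≤ FGA.intNum (Gen k) D (n + 2) (Fin.cons ((Scheme.Modules.pullback g).obj L')
      (Fin.cons ((Scheme.Modules.pullback g).obj L') (fun _ => (Scheme.Modules.pullback g).obj H') :
        Fin (n + 1) → D.Modules) : Fin (n + 2) → D.Modules) (Coh.structureModule D) := by
    have h1 := hnum (Fin.cons L' (Fin.cons L' (fun _ => H') : Fin (n + 1) → X.Modules) : Fin (n + 2) → X.Modules)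
      (fun i => by
        cases i using Fin.cases with
        | zero => exact hL'
        | succ i =>
          cases i using Fin.cases
          · exact hL'
          · exact hH')
    rw [intNum_rot_three] at h1
    have h2 : (fun i => (Scheme.Modules.pullback g).obj
        ((Fin.cons L' (Fin.cons L' (fun _ => H') : Fin (n + 1) → X.Modules) : Fin (n + 2) → X.Modules) i)) =
        (Fin.cons ((Scheme.Modules.pullback g).obj L')
      (Fin.cons ((Scheme.Modules.pullback g).obj L') (fun _ => (Scheme.Modules.pullback g).obj H') :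
        Fin (n + 1) → D.Modules) : Fin (n + 2) → D.Modules) := by
      funext i
      cases i using Fin.cases with
      | zero => rfl
      | succ i => cases i using Fin.cases <;> rfl
    rw [h2] at h1
    have h3 : 0 ≤ FGA.intNum k X (n + 2 + 1) (Fin.cons L' (Fin.cons L' (fun _ => H') : Fin (n + 2) → X.Modules) :
        Fin (n + 3) → X.Modules) (Coh.structureModule X) := hsq
    by_contra hneg
    have h4 : (c : ℤ) * FGA.intNum (Gen k) D (n + 2) (Fin.cons ((Scheme.Modules.pullback g).obj L')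
      (Fin.cons ((Scheme.Modules.pullback g).obj L') (fun _ => (Scheme.Modules.pullback g).obj H') :
        Fin (n + 1) → D.Modules) : Fin (n + 2) → D.Modules) (Coh.structureModule D) < 0 :=
      mul_neg_of_pos_of_neg (by exact_mod_cast hc) (not_le.mp hneg)
    rw [← h1] at h4
    have h5 : (0 : ℤ) ≤ ((m + 1 : ℕ) : ℤ) * FGA.intNum k X (n + 2 + 1) (Fin.cons L'
        (Fin.cons L' (fun _ => H') : Fin (n + 2) → X.Modules) : Fin (n + 3) → X.Modules) (Coh.structureModule X) :=
      mul_nonneg (by positivity) h3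
    exact absurd h5 (not_le.mpr h4)
  have hHD : CohB1.IsAmple ((Scheme.Modules.pullback g).obj H) := by
    rw [hg]
    exact CohqB.AmpCocycle.isAmple_pullback (j ≫ pr k X) hH
  exact ih (Gen k) D hDdim ((Scheme.Modules.pullback g).obj H) ((Scheme.Modules.pullback g).obj H')
    ((Scheme.Modules.pullback g).obj L) ((Scheme.Modules.pullback g).obj L') hHD
    (Fdesc.LocGen.isInvertible_pullback g hL) (pull_inv g hH.1 hH' hHH') (pull_inv g hL hL' hLL') horthD hsqD Y' ι' hY'dim

/-- **Hodge index theorem** in dimension `n + 2`, integral schemes, arbitrary fields. -/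
theorem hi (n : ℕ) : HI.{u} n := by
  induction n with
  | zero => exact hi_zero
  | succ n ih => exact hi_succ n ih

end Groth.Agent.Pic13.H956.Main
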